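/-
Groups of characteristic `p` (`C_X(O_p(X)) ≤ O_p(X)`), stated for subgroups of an ambient group.

Main results:
* `pCoreIn p X` (`O_p(X)` inside `G`), `le_pCoreIn`, `normalizer_le_normalizer_pCoreIn`
* `HasCharP p X`; `hasCharP_iff`; `hasCharP_of_forall`; `HasCharP.eq_one`
* `HasCharP.of_pCoreIn_le`, `HasCharP.of_normal`, `HasCharP.of_subnormal`
* `HasCharP.inf_centralizer` (fixed points of a p-group), `HasCharP.of_centralizer_le`
* `layer_eq_bot`, `fittingSubgroup_eq_pCore`, `generalizedFittingSubgroup_eq_pCore`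
* `le_normalizer_of_isSubnormal`: normal p-subgroups normalise subnormal p'-generated subgroups
-/
import Cfsg.Agent.EqLemmas
import Cfsg.Agent.Lib.Cores.Subnormal
import Cfsg.Agent.Lib.Components.Basic
import Cfsg.Agent.Lib.Components.Centralize
import Cfsg.Agent.Lib.Coprime.Abelian

set_option autoImplicit false

namespace Cfsg.Agent.LocalCharP

open Subgroup

variable {G : Type*} [Group G] {p : ℕ}

/-- `O_p(X)` for a subgroup `X`, inside the ambient group. -/
def pCoreIn (p : ℕ) (X : Subgroup G) : Subgroup G := (Cfsg.pCore p ↥X).map X.subtype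

/-- `C_X(O_p(X)) ≤ O_p(X)`. -/
def HasCharP (p : ℕ) (X : Subgroup G) : Prop :=
  X ⊓ centralizer (pCoreIn p X : Set G) ≤ pCoreIn p X

theorem pCoreIn_le (p : ℕ) (X : Subgroup G) : pCoreIn p X ≤ X := map_subtype_le _

theorem isPGroup_pCoreIn (p : ℕ) (X : Subgroup G) : IsPGroup p ↥(pCoreIn p X) :=
  (Cores.isPGroup_pCore p ↥X).map _

theorem le_pCoreIn {X Q : Subgroup G} (hQX : Q ≤ X) (hQ : IsPGroup p ↥Q)
    (hn : X ≤ normalizer (Q : Set G)) : Q ≤ pCoreIn p X := by
  rw [← map_subgroupOf_eq_of_le hQX]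
  exact map_mono (Cores.le_pCore (Cores.subgroupOf_normal_of_le_normalizer hn) hQ.comap_subtype)

theorem normalizer_le_normalizer_pCoreIn (p : ℕ) (X : Subgroup G) :
    normalizer (X : Set G) ≤ normalizer (pCoreIn p X : Set G) :=
  Cores.normalizer_le_normalizer_map _

theorem le_normalizer_pCoreIn (p : ℕ) (X : Subgroup G) : X ≤ normalizer (pCoreIn p X : Set G) :=
  le_normalizer.trans (normalizer_le_normalizer_pCoreIn p X)

theorem hasCharP_iff {X : Subgroup G} :
    HasCharP p X ↔ centralizer (Cfsg.pCore p ↥X : Set ↥X) ≤ Cfsg.pCore p ↥X := by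
  constructor
  · intro h x hx
    have : (x : G) ∈ pCoreIn p X := h ⟨x.2, by
      rintro _ ⟨y, hy, rfl⟩
      exact congrArg Subtype.val (hx y hy)⟩
    obtain ⟨y, hy, hyx⟩ := this
    exact Subtype.ext hyx ▸ hy
  · rintro h x ⟨hxX, hxC⟩
    exact ⟨⟨x, hxX⟩, h fun y hy => Subtype.ext (hxC y ⟨y, hy, rfl⟩), rfl⟩

theorem eq_one_of_coprime [Finite G] [Fact p.Prime] {Q : Subgroup G} (hQ : IsPGroup p ↥Q) {x : G}
    (hx : x ∈ Q) (ho : (orderOf x).Coprime p) : x = 1 := by
  obtain ⟨k, hk⟩ := hQ ⟨x, hx⟩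
  have h1 : x ^ p ^ k = 1 := by simpa using congrArg Subtype.val hk
  exact orderOf_eq_one_iff.1
    (Nat.eq_one_of_dvd_coprimes (ho.pow_right k) dvd_rfl (orderOf_dvd_of_pow_eq_one h1))

theorem HasCharP.eq_one [Finite G] [Fact p.Prime] {X : Subgroup G} (h : HasCharP p X) {x : G}
    (hx : x ∈ X) (hc : x ∈ centralizer (pCoreIn p X : Set G)) (ho : (orderOf x).Coprime p) :
    x = 1 :=
  eq_one_of_coprime (isPGroup_pCoreIn p X) (h ⟨hx, hc⟩) ho

theorem hasCharP_of_forall [Finite G] [Fact p.Prime] {X : Subgroup G}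
    (h : ∀ x ∈ X, x ∈ centralizer (pCoreIn p X : Set G) → (orderOf x).Coprime p → x = 1) :
    HasCharP p X := by
  refine le_pCoreIn inf_le_left ?_ ?_
  · rintro ⟨x, hxX, hxC⟩
    obtain ⟨k, hk⟩ := Components.exists_pow_coprime (p := p) x
    exact ⟨k, Subtype.ext (h _ (pow_mem hxX _) (pow_mem hxC _) hk)⟩
  · intro g hg
    have hgN := le_normalizer_pCoreIn p X hg
    rw [mem_normalizer_iff]
    intro x
    have key : ∀ g ∈ X, ∀ y ∈ X ⊓ centralizer (pCoreIn p X : Set G),
        g * y * g⁻¹ ∈ X ⊓ centralizer (pCoreIn p X : Set G) := by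
      rintro g hg y ⟨hyX, hyC⟩
      refine Subgroup.mem_inf.2 ⟨mul_mem (mul_mem hg hyX) (inv_mem hg), fun q hq => ?_⟩
      have hq' : g⁻¹ * q * g ∈ pCoreIn p X := by
        have := (mem_normalizer_iff.1 (le_normalizer_pCoreIn p X (inv_mem hg)) q).1 hq
        simpa using this
      have := hyC _ hq'
      calc q * (g * y * g⁻¹) = g * ((g⁻¹ * q * g) * y) * g⁻¹ := by group
        _ = g * (y * (g⁻¹ * q * g)) * g⁻¹ := by rw [this]
        _ = g * y * g⁻¹ * q := by group
    refine ⟨key g hg x, fun hx => ?_⟩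
    have := key g⁻¹ (inv_mem hg) _ hx
    simpa [mul_assoc] using this

/-- Subgroups containing `O_p(X)` have characteristic `p`. -/
theorem HasCharP.of_pCoreIn_le {X Y : Subgroup G} (h : HasCharP p X) (hYX : Y ≤ X)
    (hQY : pCoreIn p X ≤ Y) : HasCharP p Y := by
  have hle : pCoreIn p X ≤ pCoreIn p Y :=
    le_pCoreIn hQY (isPGroup_pCoreIn p X) (hYX.trans (le_normalizer_pCoreIn p X))
  exact fun x hx => hle (h ⟨hYX hx.1, Subgroup.centralizer_le (SetLike.coe_subset_coe.2 hle) hx.2⟩)

/-- Normal subgroups of groups of characteristic `p` have characteristic `p`. -/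
theorem HasCharP.of_normal [Finite G] [Fact p.Prime] {X Y : Subgroup G} (h : HasCharP p X)
    (hYX : Y ≤ X) (hn : X ≤ normalizer (Y : Set G)) : HasCharP p Y := by
  refine hasCharP_of_forall fun x hxY hxC ho => h.eq_one (hYX hxY) ?_ ho
  intro q hq
  have hqQ : x ∈ normalizer (pCoreIn p X : Set G) := le_normalizer_pCoreIn p X (hYX hxY)
  set c := x * q * x⁻¹ * q⁻¹ with hc
  have hcQ : c ∈ pCoreIn p X := mul_mem ((mem_normalizer_iff.1 hqQ q).1 hq) (inv_mem hq)
  have hcY : c ∈ Y := by
    have h1 := (mem_normalizer_iff.1 (hn (pCoreIn_le p X hq)) x⁻¹).1 (inv_mem hxY)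
    have e : c = x * (q * x⁻¹ * q⁻¹) := by rw [hc]; group
    rw [e]; exact mul_mem hxY h1
  have hcO : c ∈ pCoreIn p Y :=
    le_pCoreIn (X := Y) (Q := pCoreIn p X ⊓ Y) inf_le_right
      ((isPGroup_pCoreIn p X).to_le inf_le_left)
      ((le_inf (hYX.trans (le_normalizer_pCoreIn p X)) le_normalizer).trans
        (inf_normalizer_le_normalizer_inf (H := pCoreIn p X) (K := Y))) ⟨hcQ, hcY⟩
  have hxc : Commute x c := ((hxC c hcO).symm : x * c = c * x)
  have hn' : ∀ n : ℕ, x ^ n * q * (x ^ n)⁻¹ = c ^ n * q := by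
    intro n
    induction n with
    | zero => simp
    | succ n ih =>
      calc x ^ (n + 1) * q * (x ^ (n + 1))⁻¹ = x * (x ^ n * q * (x ^ n)⁻¹) * x⁻¹ := by
            rw [pow_succ']; group
        _ = (x * c ^ n) * q * x⁻¹ := by rw [ih]; group
        _ = (c ^ n * x) * q * x⁻¹ := by rw [(hxc.pow_right n).eq]
        _ = c ^ n * c * q := by rw [hc]; group
        _ = c ^ (n + 1) * q := by rw [pow_succ]
  have hcn : c ^ orderOf x = 1 := by
    have := hn' (orderOf x)
    rw [pow_orderOf_eq_one] at this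
    simpa using this
  have hc1 : c = 1 :=
    eq_one_of_coprime (isPGroup_pCoreIn p X) hcQ (ho.coprime_dvd_left (orderOf_dvd_of_pow_eq_one hcn))
  calc q * x = (x * q * x⁻¹ * q⁻¹)⁻¹ * (x * q) := by group
    _ = x * q := by rw [← hc, hc1, inv_one, one_mul]

theorem map_subgroupOf_map_subtype {X : Subgroup G} (H : Subgroup ↥X) :
    (H.map X.subtype).subgroupOf X = H :=
  comap_map_eq_self_of_injective X.subtype_injective H

/-- Subnormal subgroups of groups of characteristic `p` have characteristic `p`. -/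
theorem HasCharP.of_subnormal [Finite G] [Fact p.Prime] {X : Subgroup G} (h : HasCharP p X)
    {Y : Subgroup G} (hYX : Y ≤ X) (hs : (Y.subgroupOf X).IsSubnormal) : HasCharP p Y := by
  suffices key : ∀ H : Subgroup ↥X, H.IsSubnormal → HasCharP p (H.map X.subtype) by
    rw [← map_subgroupOf_eq_of_le hYX]; exact key _ hs
  intro H hH
  induction hH with
  | top => rwa [← MonoidHom.range_eq_map, range_subtype]
  | step H K hle _ hN ih =>
    refine ih.of_normal (map_mono hle) ?_
    exact (map_mono ((normal_subgroupOf_iff_le_normalizer hle).1 hN)).trans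
      (le_normalizer_map X.subtype)

/-- Fixed points of a `p`-group on a group of characteristic `p` have characteristic `p`. -/
theorem HasCharP.inf_centralizer [Finite G] [Fact p.Prime] {X R : Subgroup G} (h : HasCharP p X)
    (hR : IsPGroup p ↥R) (hRX : R ≤ normalizer (X : Set G)) :
    HasCharP p (X ⊓ centralizer (R : Set G)) := by
  set Z := X ⊓ centralizer (R : Set G) with hZ
  refine hasCharP_of_forall fun x hx hxC ho => h.eq_one hx.1 ?_ ho
  refine Components.mem_centralizer_of_mem_centralizer hR (isPGroup_pCoreIn p X)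
    (hRX.trans (normalizer_le_normalizer_pCoreIn p X)) ho (le_normalizer_pCoreIn p X hx.1) hx.2
    fun y hy hyR => ?_
  have hy' : y ∈ pCoreIn p Z := by
    refine le_pCoreIn (X := Z) (Q := pCoreIn p X ⊓ Z) inf_le_right
      ((isPGroup_pCoreIn p X).to_le inf_le_left)
      ((le_inf ((inf_le_left : Z ≤ X).trans (le_normalizer_pCoreIn p X)) le_normalizer).trans
        (inf_normalizer_le_normalizer_inf (H := pCoreIn p X) (K := Z))) ?_
    exact ⟨hy, pCoreIn_le p X hy, hyR⟩
  exact (hxC y hy').symm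

/-- If `C_Y(P)` has characteristic `p` for some `P ≤ O_p(Y)` and is normal, then `Y` has. -/
theorem HasCharP.of_centralizer_le {Y P : Subgroup G}
    (h : HasCharP p (Y ⊓ centralizer (P : Set G)))
    (hn : Y ≤ normalizer ((Y ⊓ centralizer (P : Set G) : Subgroup G) : Set G))
    (hP : P ≤ pCoreIn p Y) : HasCharP p Y := by
  set Z := Y ⊓ centralizer (P : Set G) with hZ
  have hZQ : pCoreIn p Z ≤ pCoreIn p Y :=
    le_pCoreIn ((pCoreIn_le p Z).trans inf_le_left) (isPGroup_pCoreIn p Z)
      (hn.trans (normalizer_le_normalizer_pCoreIn p Z))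
  exact fun x hx => hZQ (h ⟨⟨hx.1, Subgroup.centralizer_le (SetLike.coe_subset_coe.2 hP) hx.2⟩,
    Subgroup.centralizer_le (SetLike.coe_subset_coe.2 hZQ) hx.2⟩)

section Fitting

variable {H : Type*} [Group H] [Finite H] [Fact p.Prime]

theorem layer_eq_bot (h : centralizer (Cfsg.pCore p H : Set H) ≤ Cfsg.pCore p H) :
    Cfsg.layer H = ⊥ := by
  refine le_bot_iff.1 (Components.layer_le fun L hL => False.elim ?_)
  have hnil : Group.IsNilpotent ↥(Cfsg.pCore p H) := (Cores.isPGroup_pCore p H).isNilpotent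
  have hle : Cfsg.layer H ≤ centralizer (Cfsg.pCore p H : Set H) :=
    Components.layer_le_centralizer_of_solvable inferInstance
      (by rw [Subgroup.normalizer_eq_top]; exact le_top)
  exact Components.IsComponent.not_le_of_isSolvable hL inferInstance
    (((Components.IsComponent.le_layer hL).trans hle).trans h)

theorem fittingSubgroup_eq_pCore (h : centralizer (Cfsg.pCore p H : Set H) ≤ Cfsg.pCore p H) :
    Cfsg.fittingSubgroup H = Cfsg.pCore p H := by
  refine le_antisymm (sSup_le ?_)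
    (le_sSup ⟨inferInstance, (Cores.isPGroup_pCore p H).isNilpotent⟩)
  rintro N ⟨hN, hnil⟩
  refine Cores.le_pCore hN (IsPGroup.of_card (n := (Nat.card N).primeFactorsList.length) ?_)
  refine Nat.eq_prime_pow_of_unique_prime_dvd (n := Nat.card N) Nat.card_pos.ne' (p := p) (fun {q} hq hqd => ?_)
  by_contra hne
  have : Fact q.Prime := ⟨hq⟩
  obtain ⟨x, hx⟩ := exists_prime_orderOf_dvd_card' q hqd
  obtain ⟨S, hS⟩ := ((IsPGroup.of_card (p := q) (n := 1)
    (by rw [Nat.card_zpowers, hx, pow_one])) : IsPGroup q ↥(zpowers x)).exists_le_sylow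
  have hSn : (S : Subgroup N).Normal :=
    (((Group.isNilpotent_of_finite_tfae (G := N)).out 0 3 :
      Group.IsNilpotent N ↔ ∀ (r : ℕ) (_ : Fact r.Prime) (P : Sylow r N),
        (P : Subgroup N).Normal).1 hnil) q inferInstance S
  have hxq : (x : H) ∈ Cfsg.pCore q H := by
    have hxS : x ∈ Cfsg.pCore q ↥N := Cores.le_pCore hSn S.2 (hS (mem_zpowers x))
    have := Cores.pCore_map_subtype N q
    exact ((le_of_eq this) ⟨x, hxS, rfl⟩).1
  have hxp : (x : H) ∈ Cfsg.pCore p H :=
    h fun y hy => Cores.pCore_commute (Ne.symm hne) hy hxq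
  have h1 := eq_one_of_coprime (Cores.isPGroup_pCore p H) hxp (by
    rw [orderOf_coe, hx]; exact (Nat.coprime_primes hq Fact.out).2 hne)
  rw [OneMemClass.coe_eq_one] at h1
  rw [h1, orderOf_one] at hx
  exact hq.one_lt.ne hx

theorem generalizedFittingSubgroup_eq_pCore
    (h : centralizer (Cfsg.pCore p H : Set H) ≤ Cfsg.pCore p H) :
    Cfsg.generalizedFittingSubgroup H = Cfsg.pCore p H := by
  rw [Cfsg.generalizedFittingSubgroup, layer_eq_bot h, fittingSubgroup_eq_pCore h, bot_sup_eq]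

end Fitting

theorem pPrimeGen_sup_le [Finite G] [Fact p.Prime] {K Q : Subgroup G} (hK : K.IsSubnormal)
    [Q.Normal] (hQ : IsPGroup p ↥Q) {x : G} (hx : x ∈ K ⊔ Q) (ho : (orderOf x).Coprime p) :
    x ∈ K := by
  induction hK with
  | top => trivial
  | step H L hle _ hN ih =>
    have hxL : x ∈ L := ih (sup_le_sup_right hle _ hx)
    have hnorm := (normal_subgroupOf_iff_le_normalizer hle).1 hN
    obtain ⟨a, ha, b, hb, rfl⟩ : ∃ a ∈ H, ∃ b ∈ Q, a * b = x := by
      have : (x : G) ∈ ((H ⊔ Q : Subgroup G) : Set G) := hx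
      rw [mul_normal] at this
      exact Set.mem_mul.1 this
    have hbL : b ∈ L := by
      have := mul_mem (inv_mem (hle ha)) hxL
      simpa using this
    obtain ⟨k, hk⟩ := hQ ⟨b, hb⟩
    have hk' : b ^ p ^ k = 1 := by simpa using congrArg Subtype.val hk
    refine Coprime.mem_of_pow_mem (n := p ^ k) (ho.pow_right k) ?_
    have hmem : ∀ n : ℕ, (a * b) ^ n * (b ^ n)⁻¹ ∈ H := by
      intro n
      induction n with
      | zero => simp
      | succ n ihn =>
        have h1 : a * (b * ((a * b) ^ n * (b ^ n)⁻¹) * b⁻¹) ∈ H :=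
          mul_mem ha ((mem_normalizer_iff.1 (hnorm hbL) _).1 ihn)
        have e : (a * b) ^ (n + 1) * (b ^ (n + 1))⁻¹ =
            a * (b * ((a * b) ^ n * (b ^ n)⁻¹) * b⁻¹) := by
          rw [pow_succ', pow_succ']; group
        rwa [e]
    simpa [hk'] using hmem (p ^ k)

/-- A normal `p`-subgroup normalises each subnormal subgroup generated by `p'`-elements. -/
theorem le_normalizer_of_isSubnormal [Finite G] [Fact p.Prime] {K Q : Subgroup G}
    (hK : K.IsSubnormal) [Q.Normal] (hQ : IsPGroup p ↥Q)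
    (hgen : Components.pPrimeGen p K = K) : Q ≤ normalizer (K : Set G) := by
  have he : Components.pPrimeGen p (K ⊔ Q) = K := by
    refine le_antisymm ((closure_le _).2 fun x hx => pPrimeGen_sup_le hK hQ hx.1 hx.2) ?_
    exact hgen.ge.trans (Components.pPrimeGen_mono le_sup_left)
  conv_rhs => rw [← he]
  exact (le_sup_right.trans le_normalizer).trans
    (Components.normalizer_le_normalizer_pPrimeGen p (K ⊔ Q))

end Cfsg.Agent.LocalCharP
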