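/-
Consequences of even characteristic.
Main results: `hasCharP_of_sylow_le` (overgroups of a Sylow 2-subgroup with `O_2 ≠ 1`),
`hasCharP_centralizer_of_mem` (centralisers of p-groups containing a given element).
-/
import Cfsg.Agent.EqLemmas
import Cfsg.Agent.Lib.LocalCharP.Basic

set_option autoImplicit false

namespace Cfsg.Agent.LocalCharP

open Subgroup

variable {G : Type*} [Group G] {p : ℕ}

/-- In a group of even characteristic a subgroup containing a Sylow 2-subgroup with `O_2 ≠ 1` has
characteristic 2. -/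
theorem hasCharP_of_sylow_le [Finite G] (hEC : Cfsg.IsOfEvenCharacteristic G) {Y : Subgroup G}
    (T : Sylow 2 G) (hTY : (T : Subgroup G) ≤ Y) (hO : pCoreIn 2 Y ≠ ⊥) : HasCharP 2 Y := by
  set M := normalizer (pCoreIn 2 Y : Set G) with hM
  have hYM : Y ≤ M := le_normalizer_pCoreIn 2 Y
  have hM2 : HasCharP 2 M :=
    hasCharP_iff.2 (hEC M ⟨pCoreIn 2 Y, isPGroup_pCoreIn 2 Y, hO, rfl⟩ ⟨T, hTY.trans hYM⟩)
  refine hM2.of_pCoreIn_le hYM ?_
  refine le_trans ?_ hTY
  have h := Cores.pCore_le_sylow (T.subtype (hTY.trans hYM))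
  rintro _ ⟨x, hx, rfl⟩
  exact h hx

theorem ne_bot_pCoreIn {Y : Subgroup G} (h : Cfsg.pCore p ↥Y ≠ ⊥) : pCoreIn p Y ≠ ⊥ := by
  rwa [pCoreIn, Ne, Subgroup.map_eq_bot_iff_of_injective _ Y.subtype_injective]

/-- If `C(z)` has characteristic `p` then so has `C(U)` for every `p`-group `U` containing `z`. -/
theorem hasCharP_centralizer_of_mem [Finite G] [Fact p.Prime] {z : G}
    (hz : HasCharP p (centralizer ({z} : Set G))) (U : Subgroup G) (hU : IsPGroup p ↥U)
    (hzU : z ∈ U) : HasCharP p (centralizer (U : Set G)) := by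
  induction U using WellFoundedLT.induction with
  | ind U ih =>
  by_cases h : U ≤ zpowers z
  · have he : centralizer (U : Set G) = centralizer ({z} : Set G) := by
      rw [show U = zpowers z from le_antisymm h (zpowers_le.2 hzU), zpowers_eq_closure,
        centralizer_closure]
    rwa [he]
  have : Group.IsNilpotent ↥U := hU.isNilpotent
  obtain ⟨M, hM, hzM⟩ := (eq_top_or_exists_le_coatom ((zpowers z).subgroupOf U)).resolve_left
    (fun he => h (subgroupOf_eq_top.1 he))
  have hMn : M.Normal := (Group.normalizerCondition_of_isNilpotent).normal_of_coatom M hM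
  set M' := M.map U.subtype with hM'
  have hM'U : M' ≤ U := map_subtype_le _
  have hzM' : z ∈ M' :=
    ⟨⟨z, hzU⟩, hzM (mem_subgroupOf.2 (mem_zpowers z)), rfl⟩
  have hlt : M' < U := by
    refine lt_of_le_of_ne hM'U fun he => hM.1 ?_
    rw [← map_subgroupOf_map_subtype M, ← hM', he, subgroupOf_self]
  have hIH := ih M' hlt (hU.to_le hM'U) hzM'
  have hUM : U ≤ normalizer (M' : Set G) := by
    have h1 := le_normalizer_map (H := M) U.subtype
    rw [Subgroup.normalizer_eq_top, ← MonoidHom.range_eq_map, range_subtype] at h1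
    exact h1
  have hUC : U ≤ normalizer (centralizer (M' : Set G) : Set G) := by
    intro u hu
    have key : ∀ g ∈ normalizer (M' : Set G), ∀ x ∈ centralizer (M' : Set G),
        g * x * g⁻¹ ∈ centralizer (M' : Set G) := by
      intro g hg x hx m hm
      have hm' : g⁻¹ * m * g ∈ M' := by
        have := (mem_normalizer_iff.1 (inv_mem hg) m).1 hm
        simpa using this
      have := hx _ hm'
      calc m * (g * x * g⁻¹) = g * ((g⁻¹ * m * g) * x) * g⁻¹ := by group
        _ = g * (x * (g⁻¹ * m * g)) * g⁻¹ := by rw [this]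
        _ = g * x * g⁻¹ * m := by group
    rw [mem_normalizer_iff]
    refine fun x => ⟨key u (hUM hu) x, fun hx => ?_⟩
    have := key u⁻¹ (inv_mem (hUM hu)) _ hx
    simpa [mul_assoc] using this
  have := hIH.inf_centralizer hU hUC
  rwa [inf_eq_right.2 (centralizer_le (SetLike.coe_subset_coe.2 hM'U))] at this

end Cfsg.Agent.LocalCharP
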