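/-
Members of `ℒ(G, T)` in groups of even characteristic.
Main results: `omegaCenter`, `CalLData`, `calL_data`, `le_centralizer_omegaCenter_of_le`,
`calLf_upward` (`ℒ_f` is closed upwards in `ℒ`).
-/
import Cfsg.Agent.EqLemmas
import Cfsg.Agent.Lib.LocalCharP.EvenChar
import Cfsg.Agent.Lib.PLocal.Omega

set_option autoImplicit false

namespace Cfsg.Agent.LocalCharP

open Subgroup

variable {G : Type*} [Group G] {p : ℕ}

/-- `Ω₁(Z(O_p(X)))` inside the ambient group. -/
def omegaCenter (p : ℕ) (X : Subgroup G) : Subgroup G :=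
  Cfsg.omegaOne p (pCoreIn p X ⊓ centralizer (pCoreIn p X : Set G))

theorem moduleV_eq (X : Subgroup G) : Cfsg.moduleV X = ⁅omegaCenter 2 X, X⁆ := rfl

theorem omegaCenter_le (X : Subgroup G) : omegaCenter p X ≤ pCoreIn p X :=
  (PLocal.omegaOne_le _).trans inf_le_left

theorem omegaCenter_elemAb (X : Subgroup G) : Cfsg.IsElementaryAbelian p (omegaCenter p X) :=
  PLocal.omegaOne_elemAb (inf_le_right.trans (centralizer_le (SetLike.coe_subset_coe.2 inf_le_left)))

theorem omegaCenter_le_centralizer (X : Subgroup G) :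
    omegaCenter p X ≤ centralizer (pCoreIn p X : Set G) :=
  (PLocal.omegaOne_le _).trans inf_le_right

theorem normalizer_le_normalizer_omegaCenter (p : ℕ) (X : Subgroup G) :
    normalizer (X : Set G) ≤ normalizer (omegaCenter p X : Set G) := by
  intro g hg
  have key : ∀ g ∈ normalizer (X : Set G), ∀ x ∈ omegaCenter p X,
      g * x * g⁻¹ ∈ omegaCenter p X := by
    intro g hg x hx
    have hg' := normalizer_le_normalizer_pCoreIn p X hg
    have hmap : (omegaCenter p X).map (MulAut.conj g).toMonoidHom ≤ omegaCenter p X := by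
      rw [omegaCenter, Cfsg.omegaOne, MonoidHom.map_closure, closure_le]
      rintro _ ⟨y, ⟨⟨hyO, hyC⟩, hy⟩, rfl⟩
      refine PLocal.mem_omegaOne ⟨(mem_normalizer_iff.1 hg' y).1 hyO, fun m hm => ?_⟩ ?_
      · have hm' : g⁻¹ * m * g ∈ pCoreIn p X := by
          have := (mem_normalizer_iff.1 (inv_mem hg') m).1 hm
          simpa using this
        have := hyC _ hm'
        calc m * (g * y * g⁻¹) = g * ((g⁻¹ * m * g) * y) * g⁻¹ := by group
          _ = g * (y * (g⁻¹ * m * g)) * g⁻¹ := by rw [this]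
          _ = g * y * g⁻¹ * m := by group
      · show (MulAut.conj g y) ^ p = 1
        rw [← map_pow, hy, map_one]
    exact hmap ⟨x, hx, rfl⟩
  rw [mem_normalizer_iff]
  refine fun x => ⟨key g hg x, fun hx => ?_⟩
  have := key g⁻¹ (inv_mem hg) _ hx
  simpa [mul_assoc] using this

theorem le_normalizer_omegaCenter (p : ℕ) (X : Subgroup G) :
    X ≤ normalizer (omegaCenter p X : Set G) :=
  le_normalizer.trans (normalizer_le_normalizer_omegaCenter p X)

theorem oddGenerated_eq_self [Finite G] {L : Subgroup G} (hL : ⁅L, L⁆ = L) :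
    Cfsg.oddGenerated L = L := by
  have : Fact (Nat.Prime 2) := ⟨Nat.prime_two⟩
  refine Eq.trans ?_ (Components.pPrimeGen_eq_self_of_perfect (p := 2) hL)
  show Subgroup.closure _ = Subgroup.closure _
  congr 1
  ext x
  exact and_congr_right fun _ => Nat.coprime_two_right.symm

/-- What we use about a member `L` of `ℒ(G, T)`. -/
structure CalLData (T L : Subgroup G) : Prop where
  perfect : ⁅L, L⁆ = L
  ne_bot : L ≠ ⊥
  charP_sup : HasCharP 2 (L ⊔ T)
  charP : HasCharP 2 L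
  core_le : pCoreIn 2 (L ⊔ T) ≤ T
  core_normalizes : pCoreIn 2 (L ⊔ T) ≤ normalizer (L : Set G)
  le_core : pCoreIn 2 L ≤ pCoreIn 2 (L ⊔ T)

theorem calL_data [Finite G] (hEC : Cfsg.IsOfEvenCharacteristic G) (T : Sylow 2 G) {L : Subgroup G}
    (hL : L ∈ Cfsg.calL (T : Subgroup G)) : CalLData (T : Subgroup G) L := by
  have : Fact (Nat.Prime 2) := ⟨Nat.prime_two⟩
  obtain ⟨⟨hne, hperf, hs, -⟩, -, hO⟩ := hL
  set Y := L ⊔ (T : Subgroup G) with hY
  have hLY : L ≤ Y := le_sup_left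
  have hTY : (T : Subgroup G) ≤ Y := le_sup_right
  have hY2 : HasCharP 2 Y := hasCharP_of_sylow_le hEC T hTY (ne_bot_pCoreIn hO)
  have hperf' : ⁅L, L⁆ = L := by
    have h := congrArg (Subgroup.map Y.subtype) hperf
    rwa [map_commutator, map_subgroupOf_eq_of_le hLY] at h
  refine ⟨hperf', fun h => hne (by rw [h, bot_subgroupOf]), hY2, hY2.of_subnormal hLY hs, ?_, ?_, ?_⟩
  · rintro _ ⟨x, hx, rfl⟩
    exact Cores.pCore_le_sylow (T.subtype hTY) hx
  · have h := le_normalizer_of_isSubnormal (Q := Cfsg.pCore 2 ↥Y) hs (Cores.isPGroup_pCore 2 ↥Y)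
      (Components.pPrimeGen_eq_self_of_perfect hperf)
    have h' := (map_mono (f := Y.subtype) h).trans (le_normalizer_map Y.subtype)
    rwa [map_subgroupOf_eq_of_le hLY] at h'
  · have h1 : (pCoreIn 2 L).subgroupOf Y ≤ pCoreIn 2 (L.subgroupOf Y) :=
      le_pCoreIn (fun x hx => mem_subgroupOf.2 (pCoreIn_le 2 L (mem_subgroupOf.1 hx)))
        (isPGroup_pCoreIn 2 L).comap_subtype
        ((comap_mono (le_normalizer_pCoreIn 2 L)).trans (le_normalizer_comap Y.subtype))
    have h2 := map_mono (f := Y.subtype) (h1.trans (Cores.pCore_map_le_of_isSubnormal hs 2))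
    rwa [map_subgroupOf_eq_of_le ((pCoreIn_le 2 L).trans hLY)] at h2

theorem conj_mem_omega_step {L R : Subgroup G} (hRY : L ≤ normalizer (R : Set G))
    (hRL : R ≤ normalizer (L : Set G)) {x r : G} (hx : x ∈ L) (hr : r ∈ R) :
    r * x * r⁻¹ * x⁻¹ ∈ R ⊓ L := by
  refine mem_inf.2 ⟨?_, mul_mem ((mem_normalizer_iff.1 (hRL hr) x).1 hx) (inv_mem hx)⟩
  have h := (mem_normalizer_iff.1 (hRY hx) r⁻¹).1 (inv_mem hr)
  have e : r * x * r⁻¹ * x⁻¹ = r * (x * r⁻¹ * x⁻¹) := by group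
  rw [e]; exact mul_mem hr h

/-- If `L` centralises `Ω₁Z(O_2(LT))` then it centralises `Ω₁Z(O_2(L))`. -/
theorem le_centralizer_omegaCenter [Finite G] {T L : Subgroup G} (d : CalLData T L)
    (hc : L ≤ centralizer (omegaCenter 2 (L ⊔ T) : Set G)) :
    L ≤ centralizer (omegaCenter 2 L : Set G) := by
  have : Fact (Nat.Prime 2) := ⟨Nat.prime_two⟩
  set R := pCoreIn 2 (L ⊔ T) with hR
  set W := omegaCenter 2 L with hW
  have hLR : L ≤ normalizer (R : Set G) := le_sup_left.trans (le_normalizer_pCoreIn 2 _)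
  have hWR : W ≤ R := (omegaCenter_le L).trans d.le_core
  have : IsMulCommutative ↥W := (omegaCenter_elemAb L).1
  have hcomm : ∀ {a b : G}, a ∈ W → b ∈ W → a * b = b * a := fun {a b} ha hb =>
    congrArg Subtype.val (mul_comm' (⟨a, ha⟩ : ↥W) ⟨b, hb⟩)
  conv_lhs => rw [← Components.pPrimeGen_eq_self_of_perfect (p := 2) d.perfect]
  refine (closure_le _).2 ?_
  rintro x ⟨hx, ho⟩
  have hxW : ∀ w ∈ W, x * w * x⁻¹ ∈ W := fun w hw =>
    (mem_normalizer_iff.1 (le_normalizer_omegaCenter 2 L hx) w).1 hw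
  let S : Set G := (fun w => x * w * x⁻¹ * w⁻¹) '' (W : Set G)
  have hRS : ∀ r ∈ R, ∀ s ∈ S, r * s * r⁻¹ ∈ S := by
    rintro r hr _ ⟨w, hw, rfl⟩
    have hrW := normalizer_le_normalizer_omegaCenter 2 L (d.core_normalizes hr)
    have hw' : r * w * r⁻¹ ∈ W := (mem_normalizer_iff.1 hrW w).1 hw
    refine ⟨r * w * r⁻¹, hw', ?_⟩
    have hc' : r * x * r⁻¹ * x⁻¹ ∈ pCoreIn 2 L := by
      refine le_pCoreIn (X := L) inf_le_right ((isPGroup_pCoreIn 2 _).to_le inf_le_left)
        ((le_inf hLR le_normalizer).trans (inf_normalizer_le_normalizer_inf (H := R) (K := L))) ?_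
      exact conj_mem_omega_step hLR d.core_normalizes hx hr
    have hcm := (omegaCenter_le_centralizer L (hxW _ hw')) _ hc'
    set c := r * x * r⁻¹ * x⁻¹ with hcdef
    set v := x * (r * w * r⁻¹) * x⁻¹ with hv
    show v * (r * w * r⁻¹)⁻¹ = r * (x * w * x⁻¹ * w⁻¹) * r⁻¹
    calc v * (r * w * r⁻¹)⁻¹ = (c * v) * c⁻¹ * (r * w * r⁻¹)⁻¹ := by rw [hcm]; group
      _ = _ := by rw [hv, hcdef]; group
  let φ : ↥W →* ↥W :=
    { toFun := fun w => ⟨x * w * x⁻¹ * (w : G)⁻¹, mul_mem (hxW w w.2) (inv_mem w.2)⟩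
      map_one' := Subtype.ext (by simp)
      map_mul' := fun a b => Subtype.ext (by
        show x * ((a : G) * b) * x⁻¹ * ((a : G) * b)⁻¹ = _ * _
        have h := hcomm (inv_mem a.2) (mul_mem (hxW b b.2) (inv_mem b.2))
        calc x * ((a : G) * b) * x⁻¹ * ((a : G) * b)⁻¹
            = (x * a * x⁻¹) * ((x * b * x⁻¹ * (b : G)⁻¹) * (a : G)⁻¹) := by group
          _ = (x * a * x⁻¹) * ((a : G)⁻¹ * (x * b * x⁻¹ * (b : G)⁻¹)) := by rw [h]
          _ = _ := by group) }
  have hS : S = ((φ.range.map W.subtype : Subgroup G) : Set G) := by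
    ext s
    constructor
    · rintro ⟨w, hw, rfl⟩
      exact ⟨φ ⟨w, hw⟩, ⟨⟨w, hw⟩, rfl⟩, rfl⟩
    · rintro ⟨_, ⟨w, rfl⟩, rfl⟩
      exact ⟨w, w.2, rfl⟩
  by_cases hbot : φ.range = ⊥
  · intro w hw
    have h1 : φ ⟨w, hw⟩ = 1 := (mem_bot (G := ↥W)).1 (hbot ▸ ⟨_, rfl⟩)
    exact (mul_inv_eq_iff_eq_mul.1 (mul_inv_eq_one.1 (congrArg Subtype.val h1))).symm
  exfalso
  let act : MulAction ↥R ↥S :=
    { smul := fun r s => ⟨r * s * (r : G)⁻¹, hRS r r.2 s s.2⟩
      one_smul := fun s => Subtype.ext (show (1 : G) * s * (1 : G)⁻¹ = s by group)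
      mul_smul := fun a b s => Subtype.ext
        (show ((a : G) * b) * s * ((a : G) * b)⁻¹ = (a : G) * (b * s * (b : G)⁻¹) * (a : G)⁻¹ by group) }
  have hd : 2 ∣ Nat.card ↥S := by
    rw [hS]
    show 2 ∣ Nat.card ↥(φ.range.map W.subtype)
    have hp : IsPGroup 2 ↥(φ.range.map W.subtype) :=
      ((isPGroup_pCoreIn 2 L).to_le (omegaCenter_le L)).to_subgroup _ |>.map _
    obtain ⟨n, hn⟩ := hp.exists_card_eq
    rcases n with _ | n
    · exact absurd (card_eq_one.1 (by simpa using hn))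
        ((map_eq_bot_iff_of_injective _ W.subtype_injective).not.2 hbot)
    · rw [hn, pow_succ]; exact dvd_mul_left 2 _
  have h1S : (1 : G) ∈ S := ⟨1, W.one_mem, by group⟩
  obtain ⟨⟨u, huS⟩, hufix, hu1⟩ :=
    (isPGroup_pCoreIn 2 (L ⊔ T)).exists_fixed_point_of_prime_dvd_card_of_fixed_point
      (α := ↥S) hd (a := ⟨1, h1S⟩) (fun r => Subtype.ext (show (r : G) * 1 * (r : G)⁻¹ = 1 by group))
  obtain ⟨w, hw, rfl⟩ := id huS
  set u := x * w * x⁻¹ * w⁻¹ with hu
  have huW : u ∈ W := mul_mem (hxW w hw) (inv_mem hw)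
  have huR : u ∈ centralizer (R : Set G) := fun r hr => by
    have := congrArg Subtype.val (hufix ⟨r, hr⟩)
    exact (mul_inv_eq_iff_eq_mul.1 this)
  have hu2 : u ^ 2 = 1 := (omegaCenter_elemAb L).2 u huW
  have huΩ : u ∈ omegaCenter 2 (L ⊔ T) := PLocal.mem_omegaOne ⟨hWR huW, huR⟩ hu2
  have hxu : Commute x u := ((hc hx) u huΩ).symm
  have hn : ∀ n : ℕ, x ^ n * w * (x ^ n)⁻¹ = u ^ n * w := by
    intro n
    induction n with
    | zero => simp
    | succ n ih =>
      calc x ^ (n + 1) * w * (x ^ (n + 1))⁻¹ = x * (x ^ n * w * (x ^ n)⁻¹) * x⁻¹ := by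
            rw [pow_succ']; group
        _ = (x * u ^ n) * w * x⁻¹ := by rw [ih]; group
        _ = (u ^ n * x) * w * x⁻¹ := by rw [(hxu.pow_right n).eq]
        _ = u ^ n * u * w := by rw [hu]; group
        _ = u ^ (n + 1) * w := by rw [pow_succ]
  have hun : u ^ orderOf x = 1 := by
    have := hn (orderOf x)
    rw [pow_orderOf_eq_one] at this
    simpa using this
  apply hu1
  refine Subtype.ext (Eq.symm ?_)
  exact orderOf_eq_one_iff.1 (Nat.eq_one_of_dvd_coprimes ho (orderOf_dvd_of_pow_eq_one hun)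
    (orderOf_dvd_of_pow_eq_one hu2))

/-- A member of `ℒ(G, T)` over a member of `ℒ_f(G, T)` lies in `ℒ_f(G, T)`. -/
theorem calLf_upward [Finite G] (hEC : Cfsg.IsOfEvenCharacteristic G) (T : Sylow 2 G)
    {L K : Subgroup G} (hL : L ∈ Cfsg.calLf (T : Subgroup G))
    (hK : K ∈ Cfsg.calL (T : Subgroup G)) (hLK : L ≤ K) : K ∈ Cfsg.calLf (T : Subgroup G) := by
  have : Fact (Nat.Prime 2) := ⟨Nat.prime_two⟩
  obtain ⟨hL, -, hVL⟩ := hL
  have dL := calL_data hEC T hL
  have dK := calL_data hEC T hK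
  refine ⟨hK, ⟨dK.ne_bot, oddGenerated_eq_self dK.perfect,
    generalizedFittingSubgroup_eq_pCore (hasCharP_iff.1 dK.charP)⟩, fun hVK => hVL ?_⟩
  rw [moduleV_eq] at hVK ⊢
  set V := omegaCenter 2 (K ⊔ (T : Subgroup G)) with hV
  have hKV : K ≤ normalizer (V : Set G) := le_sup_left.trans (le_normalizer_omegaCenter 2 _)
  have hVK' : V ≤ normalizer (K : Set G) := (omegaCenter_le _).trans dK.core_normalizes
  have h1 : ⁅K, V⁆ ≤ omegaCenter 2 K := by
    refine commutator_le.2 fun k hk v hv => ?_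
    have hVk : k * v * k⁻¹ * v⁻¹ ∈ V :=
      mul_mem ((mem_normalizer_iff.1 (hKV hk) v).1 hv) (inv_mem hv)
    have hKk : k * v * k⁻¹ * v⁻¹ ∈ K := by
      have h := (mem_normalizer_iff.1 (hVK' hv) k⁻¹).1 (inv_mem hk)
      have e : k * v * k⁻¹ * v⁻¹ = k * (v * k⁻¹ * v⁻¹) := by group
      rw [e]; exact mul_mem hk h
    rw [commutatorElement_def]
    refine PLocal.mem_omegaOne ⟨?_, centralizer_le (SetLike.coe_subset_coe.2 dK.le_core)
      (omegaCenter_le_centralizer _ hVk)⟩ ((omegaCenter_elemAb _).2 _ hVk)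
    exact le_pCoreIn (X := K) inf_le_right
      ((isPGroup_pCoreIn 2 _).to_le (inf_le_left.trans (omegaCenter_le _)))
      ((le_inf hKV le_normalizer).trans (inf_normalizer_le_normalizer_inf (H := V) (K := K)))
      ⟨hVk, hKk⟩
  have hKV1 : ⁅K, V⁆ = ⊥ := Components.commutator_eq_bot_of_perfect_of_le dK.perfect h1 hVK
  have hLR : omegaCenter 2 (L ⊔ (T : Subgroup G)) ≤ V := by
    refine PLocal.omegaOne_mono (le_inf ?_ ?_)
    · intro z hz
      have hQR : pCoreIn 2 (K ⊔ (T : Subgroup G)) ≤ pCoreIn 2 (L ⊔ (T : Subgroup G)) :=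
        le_pCoreIn (dK.core_le.trans le_sup_right) (isPGroup_pCoreIn 2 _)
          ((sup_le_sup_right hLK _).trans (le_normalizer_pCoreIn 2 _))
      exact dK.charP_sup ⟨sup_le_sup_right hLK _ (pCoreIn_le 2 _ hz.1),
        centralizer_le (SetLike.coe_subset_coe.2 hQR) hz.2⟩
    · refine inf_le_right.trans (centralizer_le (SetLike.coe_subset_coe.2 ?_))
      exact le_pCoreIn (dK.core_le.trans le_sup_right) (isPGroup_pCoreIn 2 _)
        ((sup_le_sup_right hLK _).trans (le_normalizer_pCoreIn 2 _))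
  have hc : L ≤ centralizer (omegaCenter 2 (L ⊔ (T : Subgroup G)) : Set G) :=
    hLK.trans ((commutator_eq_bot_iff_le_centralizer.1 hKV1).trans
      (centralizer_le (SetLike.coe_subset_coe.2 hLR)))
  rw [commutator_comm]
  exact commutator_eq_bot_iff_le_centralizer.2 (le_centralizer_omegaCenter dL hc)

end Cfsg.Agent.LocalCharP
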