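/-
Criteria for characteristic `p`, parabolic characteristic `p`, local characteristic `p`
via centralizers of elements of order `p`.

* `HasCharP.map`, `hasCharP_top_iff`: transport
* `hasCharP_normalizer`: `z ∈ Z(X)` with `C(z)` of characteristic `p` gives `N(X)` of characteristic `p`
* `exists_mem_omegaOne_center`: a nontrivial normal subgroup of a `p`-group meets `Ω₁(Z)`
* `IsOfParabolicCharacteristic.hasCharP_centralizer`, `isOfParabolicCharacteristic_of_centralizers`
-/
import Cfsg.Agent.EqLemmas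
import Cfsg.Agent.Lib.LocalCharP.Basic
import Cfsg.Agent.Lib.CharP.Basic
import Cfsg.Agent.Lib.CharP.Fitting
import Cfsg.Agent.Lib.Cores.Fitting
import Cfsg.Agent.Lib.PLocal.Action

set_option autoImplicit false

namespace Cfsg.Agent.LocalCharP

open Subgroup
open scoped Pointwise

variable {G : Type*} [Group G] {p : ℕ}

theorem HasCharP.map {H : Type*} [Group H] {X : Subgroup G} (h : HasCharP p X) (f : G →* H)
    (hf : Function.Injective f) : HasCharP p (X.map f) :=
  hasCharP_iff.2 (CharP.charP_of_equiv (X.equivMapOfInjective f hf) (hasCharP_iff.1 h))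

theorem HasCharP.of_map {H : Type*} [Group H] {X : Subgroup G} (f : G →* H)
    (hf : Function.Injective f) (h : HasCharP p (X.map f)) : HasCharP p X :=
  hasCharP_iff.2 (CharP.charP_of_equiv (X.equivMapOfInjective f hf).symm (hasCharP_iff.1 h))

theorem hasCharP_iff_generalizedFitting [Finite G] [Fact p.Prime] {X : Subgroup G} :
    HasCharP p X ↔ Cfsg.generalizedFittingSubgroup ↥X = Cfsg.pCore p ↥X :=
  hasCharP_iff.trans ⟨generalizedFittingSubgroup_eq_pCore, CharP.charP_of_generalizedFitting_eq⟩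

/-- If a central element `z` of a `p`-group `X` has centralizer of characteristic `p`, then so
does `N(X)`. -/
theorem hasCharP_normalizer [Finite G] [Fact p.Prime] {X : Subgroup G} (hX : IsPGroup p ↥X)
    {z : G} (hz : z ∈ X) (hc : ∀ x ∈ X, x * z = z * x)
    (h : HasCharP p (centralizer ({z} : Set G))) :
    HasCharP p (normalizer (X : Set G)) := by
  have hXC : X ≤ centralizer ({z} : Set G) := fun x hx =>
    mem_centralizer_singleton_iff.2 (hc x hx)
  have h1 := h.inf_centralizer hX (hXC.trans le_normalizer)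
  have hle : centralizer (X : Set G) ≤ centralizer ({z} : Set G) :=
    Subgroup.centralizer_le (Set.singleton_subset_iff.2 hz)
  rw [inf_eq_right.2 hle] at h1
  have hCN : centralizer (X : Set G) ≤ normalizer (X : Set G) := centralizer_le_normalizer _
  refine HasCharP.of_centralizer_le (P := X) ?_ ?_ ?_
  · rwa [inf_eq_right.2 hCN]
  · rw [inf_eq_right.2 hCN]
    exact PLocal.normalizer_le_normalizer_centralizer X
  · exact le_pCoreIn le_normalizer hX le_rfl

/-- A nontrivial subgroup normalised by a `p`-group `T` containing it meets `Ω₁(Z(T))`. -/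
theorem exists_mem_omegaOne_center [Finite G] [Fact p.Prime] {T R : Subgroup G}
    (hT : IsPGroup p ↥T) (hRT : R ≤ T) (hn : T ≤ normalizer (R : Set G)) (hR : R ≠ ⊥) :
    ∃ z ∈ R, orderOf z = p ∧ z ∈ Cfsg.omegaOne p (T ⊓ centralizer (T : Set G)) ∧
      ∀ t ∈ T, t * z = z * t := by
  have hN : (R.subgroupOf T).Normal := Cores.subgroupOf_normal_of_le_normalizer hn
  haveI : Nontrivial ↥(R.subgroupOf T) := by
    rw [nontrivial_iff_ne_bot, ne_eq, subgroupOf_eq_bot, disjoint_iff, inf_eq_left.2 hRT]
    exact hR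
  obtain ⟨x, hxR, hxo, hxc⟩ : ∃ x : ↥T, x ∈ R.subgroupOf T ∧ orderOf x = p ∧
      ∀ t : ↥T, t * x = x * t := by
    obtain ⟨y, hyR, hy1, hyc⟩ : ∃ y : ↥T, y ∈ R.subgroupOf T ∧ y ≠ 1 ∧ y ∈ center ↥T := by
      by_contra hcon
      push Not at hcon
      have hd : R.subgroupOf T ⊓ center ↥T = ⊥ := by
        refine le_bot_iff.1 fun y hy => ?_
        by_contra hy1
        exact hcon y hy.1 hy1 hy.2
      haveI := hT.isNilpotent
      haveI := hN
      exact Cores.inf_center_ne_bot (R.subgroupOf T)
        ((nontrivial_iff_ne_bot _).1 inferInstance) hd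
    obtain ⟨k, hk⟩ := (IsPGroup.iff_orderOf.1 hT) y
    obtain ⟨m, rfl⟩ : ∃ m, k = m + 1 := Nat.exists_eq_succ_of_ne_zero (by
      rintro rfl; exact hy1 (orderOf_eq_one_iff.1 (by simpa using hk)))
    refine ⟨y ^ p ^ m, pow_mem hyR _, ?_, fun t => mem_center_iff.1 (pow_mem hyc _) t⟩
    rw [orderOf_pow_of_dvd (pow_ne_zero _ (Fact.out : p.Prime).ne_zero)
      (hk ▸ pow_dvd_pow p (Nat.le_succ m)), hk, pow_succ, Nat.mul_div_cancel_left _
      (pow_pos (Fact.out : p.Prime).pos m)]
  have hc : ∀ t ∈ T, t * (x : G) = x * t := fun t ht => congrArg Subtype.val (hxc ⟨t, ht⟩)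
  refine ⟨x, hxR, by rw [orderOf_coe, hxo], subset_closure ⟨⟨x.2, ?_⟩, ?_⟩, hc⟩
  · exact mem_centralizer_iff.2 hc
  · rw [← SubmonoidClass.coe_pow, ← hxo, pow_orderOf_eq_one, OneMemClass.coe_one]

/-- In parabolic characteristic `p`, a `p`-element centralizing a Sylow subgroup and lying in it
has centralizer of characteristic `p`. -/
theorem hasCharP_centralizer_of_parabolic [Finite G] [Fact p.Prime]
    (hG : Cfsg.IsOfParabolicCharacteristic p G) (S : Sylow p G) {z : G}
    (hz : z ∈ (S : Subgroup G) ⊓ centralizer ((S : Subgroup G) : Set G)) (hz1 : z ≠ 1) :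
    HasCharP p (centralizer ({z} : Set G)) := by
  have hSC : (S : Subgroup G) ≤ centralizer ({z} : Set G) := fun s hs =>
    mem_centralizer_singleton_iff.2 (mem_centralizer_iff.1 hz.2 s hs)
  have hCN : centralizer ({z} : Set G) ≤ normalizer ((zpowers z : Subgroup G) : Set G) := by
    have : centralizer ({z} : Set G) = centralizer ((zpowers z : Subgroup G) : Set G) := by
      rw [zpowers_eq_closure, centralizer_closure]
    rw [this]
    exact centralizer_le_normalizer _
  have hN : HasCharP p (normalizer ((zpowers z : Subgroup G) : Set G)) := hasCharP_iff.2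
    (hG (zpowers z) (S.2.to_le (zpowers_le.2 hz.1)) (zpowers_ne_bot.2 hz1)
      ⟨S, hSC.trans hCN⟩)
  refine hN.of_normal hCN ?_
  have : centralizer ({z} : Set G) = centralizer ((zpowers z : Subgroup G) : Set G) := by
    rw [zpowers_eq_closure, centralizer_closure]
  rw [this]
  exact PLocal.normalizer_le_normalizer_centralizer _

/-- Centralizers of conjugates. -/
theorem hasCharP_centralizer_conj {z : G} (h : HasCharP p (centralizer ({z} : Set G))) (g : G) :
    HasCharP p (centralizer ({g * z * g⁻¹} : Set G)) := by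
  have := h.map (MulAut.conj g).toMonoidHom (MulAut.conj g).injective
  convert this using 2
  ext x
  rw [mem_map_equiv, mem_centralizer_singleton_iff, mem_centralizer_singleton_iff,
    MulAut.conj_symm_apply]
  constructor
  · intro hx
    calc g⁻¹ * x * g * z = g⁻¹ * (x * (g * z * g⁻¹)) * g := by group
      _ = g⁻¹ * (g * z * g⁻¹ * x) * g := by rw [hx]
      _ = z * (g⁻¹ * x * g) := by group
  · intro hx
    calc x * (g * z * g⁻¹) = g * (g⁻¹ * x * g * z) * g⁻¹ := by group
      _ = g * (z * (g⁻¹ * x * g)) * g⁻¹ := by rw [hx]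
      _ = g * z * g⁻¹ * x := by group

/-- Parabolic characteristic `p` from centralizers of elements of `Ω₁(Z(S))`. -/
theorem isOfParabolicCharacteristic_of_centralizers [Finite G] [Fact p.Prime] (S : Sylow p G)
    (h : ∀ z : G, z ≠ 1 → z ∈ Cfsg.omegaOne p ((S : Subgroup G) ⊓ centralizer ((S : Subgroup G) : Set G)) →
      HasCharP p (centralizer ({z} : Set G))) :
    Cfsg.IsOfParabolicCharacteristic p G := by
  intro R hR hR1 hpar
  obtain ⟨T, hT⟩ := hpar
  have hRT : R ≤ (T : Subgroup G) := by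
    have h1 : IsPGroup p ↥((T : Subgroup G) ⊔ R : Subgroup G) :=
      IsPGroup.to_sup_of_normal_right' T.2 hR hT
    exact le_sup_right.trans (T.3 h1 le_sup_left).le
  obtain ⟨z, hzR, hzo, hzΩ, hzc⟩ := exists_mem_omegaOne_center T.2 hRT hT hR1
  refine hasCharP_iff.1 (hasCharP_normalizer hR hzR (fun x hx => hzc x (hRT hx)) ?_)
  obtain ⟨g, rfl⟩ := MulAction.exists_smul_eq G S T
  have hT' : ((g • S : Sylow p G) : Subgroup G) = MulAut.conj g • (S : Subgroup G) :=
    Sylow.coe_subgroup_smul
  have hmem : ∀ x, x ∈ ((g • S : Sylow p G) : Subgroup G) ↔ g⁻¹ * x * g ∈ (S : Subgroup G) := by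
    intro x
    rw [hT', mem_pointwise_smul_iff_inv_smul_mem, ← map_inv, MulAut.smul_def, MulAut.conj_apply,
      inv_inv]
  have hz' : g⁻¹ * z * g ∈ Cfsg.omegaOne p
      ((S : Subgroup G) ⊓ centralizer ((S : Subgroup G) : Set G)) := by
    refine subset_closure ⟨⟨(hmem z).1 (hRT hzR), mem_centralizer_iff.2 fun s hs => ?_⟩, ?_⟩
    · have hs' : g * s * g⁻¹ ∈ ((g • S : Sylow p G) : Subgroup G) := by
        rw [hmem]
        have e : g⁻¹ * (g * s * g⁻¹) * g = s := by group
        rw [e]; exact hs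
      calc s * (g⁻¹ * z * g) = g⁻¹ * (g * s * g⁻¹ * z) * g := by group
        _ = g⁻¹ * (z * (g * s * g⁻¹)) * g := by rw [hzc _ hs']
        _ = g⁻¹ * z * g * s := by group
    · have e : g⁻¹ * z * g = g⁻¹ * z * g⁻¹⁻¹ := by group
      rw [e, conj_pow, ← hzo, pow_orderOf_eq_one, mul_one, mul_inv_cancel]
  have hz1 : g⁻¹ * z * g ≠ 1 := by
    intro h1
    have h2 : z = 1 := by
      calc z = g * (g⁻¹ * z * g) * g⁻¹ := by group
        _ = 1 := by rw [h1]; group
    exact (Fact.out : p.Prime).ne_one (by rw [← hzo, h2, orderOf_one])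
  have := hasCharP_centralizer_conj (h _ hz1 hz') g
  have e : g * (g⁻¹ * z * g) * g⁻¹ = z := by group
  rwa [e] at this

end Cfsg.Agent.LocalCharP
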